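import Cfsg.Agent.Lib.CosetEnum.Fi24Y0.DefsPart0
import Cfsg.Agent.Lib.CosetEnum.Fi24Y0.DefsPart1
import Cfsg.Agent.Lib.CosetEnum.Fi24Y0.StepsPart0
import Cfsg.Agent.Lib.CosetEnum.Fi24Y0.StepsPart1
import Cfsg.Agent.Lib.CosetEnum.Fi24Y0.StepsPart2
import Cfsg.Agent.Lib.CosetEnum.Fi24Y0.StepsPart3
import Cfsg.Agent.Lib.CosetEnum.Fi24Y0.StepsPart4
import Cfsg.Agent.Lib.CosetEnum.Fi24Y0.StepsPart5
import Cfsg.Agent.Lib.CosetEnum.Fi24Y0.StepsPart6
import Cfsg.Agent.Lib.CosetEnum.Fi24Y0.StepsPart7
import Cfsg.Agent.Lib.CosetEnum.Fi24Y0.StepsPart8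
import Cfsg.Agent.Lib.CosetEnum.Fi24Y0.StepsPart9
import Cfsg.Agent.Lib.CosetEnum.Fi24Y0.StepsPart10
import Cfsg.Agent.Lib.CosetEnum.Fi24Y0.StepsPart11
import Cfsg.Agent.Lib.CosetEnum.Fi24Y0.StepsPart12
import Cfsg.Agent.Lib.CosetEnum.Fi24Y0.StepsPart13
import Cfsg.Agent.Lib.CosetEnum.Fi24Y0.StepsPart14
import Cfsg.Agent.Lib.CosetEnum.Fi24Y0.StepsPart15
import Cfsg.Agent.Lib.CosetEnum.Fi24Y0.StepsPart16
import Cfsg.Agent.Lib.CosetEnum.Fi24Y0.StepsPart17
import Cfsg.Agent.Lib.CosetEnum.Fi24Y0.StepsPart18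
import Cfsg.Agent.Lib.CosetEnum.Fi24Y0.StepsPart19
import Cfsg.Agent.Lib.CosetEnum.Fi24Y0.StepsPart20
import Cfsg.Agent.Lib.CosetEnum.Fi24Y0.StepsPart21
import Cfsg.Agent.Lib.CosetEnum.Fi24Y0.StepsPart22
import Cfsg.Agent.Lib.CosetEnum.Fi24Y0.StepsPart23
import Cfsg.Agent.Lib.CosetEnum.Fi24Y0.StepsPart24
import Cfsg.Agent.Lib.CosetEnum.Fi24Y0.StepsPart25
import Cfsg.Agent.Lib.CosetEnum.Fi24Y0.StepsPart26
import Cfsg.Agent.Lib.CosetEnum.Fi24Y0.StepsPart27
import Cfsg.Agent.Lib.CosetEnum.Fi24Y0.StepsPart28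
import Cfsg.Agent.Lib.CosetEnum.Fi24Y0.StepsPart29
import Cfsg.Agent.Lib.CosetEnum.Fi24Y0.StepsPart30
import Cfsg.Agent.Lib.CosetEnum.Fi24Y0.StepsPart31
import Cfsg.Agent.Lib.CosetEnum.Fi24Y0.StepsPart32
import Cfsg.Agent.Lib.CosetEnum.Fi24Y0.StepsPart33
import Cfsg.Agent.Lib.CosetEnum.Fi24Y0.StepsPart34
import Cfsg.Agent.Lib.CosetEnum.Fi24Y0.StepsPart35
import Cfsg.Agent.Lib.CosetEnum.Fi24Y0.StepsPart36
import Cfsg.Agent.Lib.CosetEnum.Fi24Y0.StepsPart37
import Cfsg.Agent.Lib.CosetEnum.Fi24Y0.StepsPart38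
import Cfsg.Agent.Lib.CosetEnum.Fi24Y0.StepsPart39
import Cfsg.Agent.Lib.CosetEnum.Fi24Y0.StepsPart40
import Cfsg.Agent.Lib.CosetEnum.Fi24Y0.StepsPart41
import Cfsg.Agent.Lib.CosetEnum.Fi24Y0.StepsPart42
import Cfsg.Agent.Lib.CosetEnum.Fi24Y0.StepsPart43
import Cfsg.Agent.Lib.CosetEnum.Fi24Y0.ClosedPart0
import Cfsg.Agent.Lib.CosetEnum.Fi24Y0.ClosedPart1
import Cfsg.Agent.Lib.CosetEnum.Fi24Y0.ClosedPart2

/-! Generated certificate. -/

set_option autoImplicit false
set_option maxRecDepth 20000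

namespace Cfsg.Lib.CosetEnum.Fi24Y0

theorem step_valid {R0 : List (List Nat)} (h : shiftsOK R0 relWords = true) : step.Valid R0 where
  pos := by decide +kernel
  shifts := h
  defs := (defsOK_append (a := 16000) (b := 12430) (defsOK_append (a := 8000) (b := 8000) (defsOK_append (a := 4000) (b := 4000) defs_0 defs_1) (defsOK_append (a := 4000) (b := 4000) defs_2 defs_3)) (defsOK_append (a := 8000) (b := 4430) (defsOK_append (a := 4000) (b := 4000) defs_4 defs_5) (defsOK_append (a := 4000) (b := 430) defs_6 defs_7)))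
  steps := (stepsOK_append (m := 64500) (n := 65020) (stepsOK_append (m := 31500) (n := 33000) (stepsOK_append (m := 15000) (n := 16500) (stepsOK_append (m := 7500) (n := 7500) (stepsOK_append (m := 3000) (n := 4500) (stepsOK_append (m := 1500) (n := 1500) steps_0 steps_1) (stepsOK_append (m := 1500) (n := 3000) steps_2 (stepsOK_append (m := 1500) (n := 1500) steps_3 steps_4))) (stepsOK_append (m := 3000) (n := 4500) (stepsOK_append (m := 1500) (n := 1500) steps_5 steps_6) (stepsOK_append (m := 1500) (n := 3000) steps_7 (stepsOK_append (m := 1500) (n := 1500) steps_8 steps_9)))) (stepsOK_append (m := 7500) (n := 9000) (stepsOK_append (m := 3000) (n := 4500) (stepsOK_append (m := 1500) (n := 1500) steps_10 steps_11) (stepsOK_append (m := 1500) (n := 3000) steps_12 (stepsOK_append (m := 1500) (n := 1500) steps_13 steps_14))) (stepsOK_append (m := 4500) (n := 4500) (stepsOK_append (m := 1500) (n := 3000) steps_15 (stepsOK_append (m := 1500) (n := 1500) steps_16 steps_17)) (stepsOK_append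 (m := 1500) (n := 3000) steps_18 (stepsOK_append (m := 1500) (n := 1500) steps_19 steps_20))))) (stepsOK_append (m := 16500) (n := 16500) (stepsOK_append (m := 7500) (n := 9000) (stepsOK_append (m := 3000) (n := 4500) (stepsOK_append (m := 1500) (n := 1500) steps_21 steps_22) (stepsOK_append (m := 1500) (n := 3000) steps_23 (stepsOK_append (m := 1500) (n := 1500) steps_24 steps_25))) (stepsOK_append (m := 4500) (n := 4500) (stepsOK_append (m := 1500) (n := 3000) steps_26 (stepsOK_append (m := 1500) (n := 1500) steps_27 steps_28)) (stepsOK_append (m := 1500) (n := 3000) steps_29 (stepsOK_append (m := 1500) (n := 1500) steps_30 steps_31)))) (stepsOK_append (m := 7500) (n := 9000) (stepsOK_append (m := 3000) (n := 4500) (stepsOK_append (m := 1500) (n := 1500) steps_32 steps_33) (stepsOK_append (m := 1500) (n := 3000) steps_34 (stepsOK_append (m := 1500) (n := 1500) steps_35 steps_36))) (stepsOK_append (m := 4500) (n := 4500) (stepsOK_append (m := 1500) (n := 3000) steps_37 (stepsOK_append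 (m := 1500) (n := 1500) steps_38 steps_39)) (stepsOK_append (m := 1500) (n := 3000) steps_40 (stepsOK_append (m := 1500) (n := 1500) steps_41 steps_42)))))) (stepsOK_append (m := 33000) (n := 32020) (stepsOK_append (m := 16500) (n := 16500) (stepsOK_append (m := 7500) (n := 9000) (stepsOK_append (m := 3000) (n := 4500) (stepsOK_append (m := 1500) (n := 1500) steps_43 steps_44) (stepsOK_append (m := 1500) (n := 3000) steps_45 (stepsOK_append (m := 1500) (n := 1500) steps_46 steps_47))) (stepsOK_append (m := 4500) (n := 4500) (stepsOK_append (m := 1500) (n := 3000) steps_48 (stepsOK_append (m := 1500) (n := 1500) steps_49 steps_50)) (stepsOK_append (m := 1500) (n := 3000) steps_51 (stepsOK_append (m := 1500) (n := 1500) steps_52 steps_53)))) (stepsOK_append (m := 7500) (n := 9000) (stepsOK_append (m := 3000) (n := 4500) (stepsOK_append (m := 1500) (n := 1500) steps_54 steps_55) (stepsOK_append (m := 1500) (n := 3000) steps_56 (stepsOK_append (m := 1500) (n := 1500) steps_57 steps_58)))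 (stepsOK_append (m := 4500) (n := 4500) (stepsOK_append (m := 1500) (n := 3000) steps_59 (stepsOK_append (m := 1500) (n := 1500) steps_60 steps_61)) (stepsOK_append (m := 1500) (n := 3000) steps_62 (stepsOK_append (m := 1500) (n := 1500) steps_63 steps_64))))) (stepsOK_append (m := 16500) (n := 15520) (stepsOK_append (m := 7500) (n := 9000) (stepsOK_append (m := 3000) (n := 4500) (stepsOK_append (m := 1500) (n := 1500) steps_65 steps_66) (stepsOK_append (m := 1500) (n := 3000) steps_67 (stepsOK_append (m := 1500) (n := 1500) steps_68 steps_69))) (stepsOK_append (m := 4500) (n := 4500) (stepsOK_append (m := 1500) (n := 3000) steps_70 (stepsOK_append (m := 1500) (n := 1500) steps_71 steps_72)) (stepsOK_append (m := 1500) (n := 3000) steps_73 (stepsOK_append (m := 1500) (n := 1500) steps_74 steps_75)))) (stepsOK_append (m := 7500) (n := 8020) (stepsOK_append (m := 3000) (n := 4500) (stepsOK_append (m := 1500) (n := 1500) steps_76 steps_77) (stepsOK_append (m := 1500) (n := 3000) steps_78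 (stepsOK_append (m := 1500) (n := 1500) steps_79 steps_80))) (stepsOK_append (m := 4500) (n := 3520) (stepsOK_append (m := 1500) (n := 3000) steps_81 (stepsOK_append (m := 1500) (n := 1500) steps_82 steps_83)) (stepsOK_append (m := 1500) (n := 2020) steps_84 (stepsOK_append (m := 1500) (n := 520) steps_85 steps_86)))))))
  closed := (closedOK_append (a := 16000) (b := 12431) (closedOK_append (a := 8000) (b := 8000) (closedOK_append (a := 4000) (b := 4000) closed_0 closed_1) (closedOK_append (a := 4000) (b := 4000) closed_2 closed_3)) (closedOK_append (a := 8000) (b := 4431) (closedOK_append (a := 4000) (b := 4000) closed_4 closed_5) (closedOK_append (a := 4000) (b := 431) closed_6 closed_7)))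

end Cfsg.Lib.CosetEnum.Fi24Y0
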