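import Cfsg.Agent.Lib.CosetEnum.Fi24Y0.TabF_Data0
import Cfsg.Agent.Lib.CosetEnum.Fi24Y0.TabF_Data1
import Cfsg.Agent.Lib.CosetEnum.Fi24Y0.TabC_Data0
import Cfsg.Agent.Lib.CosetEnum.Fi24Y0.TabC_Data1
import Cfsg.Agent.Lib.CosetEnum.Fi24Y0.TabC_Data2
import Cfsg.Agent.Lib.CosetEnum.Fi24Y0.TabC_Data3
import Cfsg.Agent.Lib.CosetEnum.Fi24Y0.TabC_Data4
import Cfsg.Agent.Lib.CosetEnum.Fi24Y0.TabC_Data5
import Cfsg.Agent.Lib.CosetEnum.Fi24Y0.TabC_Data6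
import Cfsg.Agent.Lib.CosetEnum.Fi24Y0.TabC_Data7
import Cfsg.Agent.Lib.CosetEnum.Fi24Y0.TabC_Data8
import Cfsg.Agent.Lib.CosetEnum.Fi24Y0.TabC_Data9
import Cfsg.Agent.Lib.CosetEnum.Fi24Y0.TabC_Data10
import Cfsg.Agent.Lib.CosetEnum.Fi24Y0.TabC_Data11
import Cfsg.Agent.Lib.CosetEnum.Fi24Y0.TabC_Data12
import Cfsg.Agent.Lib.CosetEnum.Fi24Y0.TabC_Data13
import Cfsg.Agent.Lib.CosetEnum.Fi24Y0.TabC_Data14
import Cfsg.Agent.Lib.CosetEnum.Fi24Y0.TabC_Data15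
import Cfsg.Agent.Lib.CosetEnum.Fi24Y0.TabC_Data16
import Cfsg.Agent.Lib.CosetEnum.Fi24Y0.TabC_Data17
import Cfsg.Agent.Lib.CosetEnum.Fi24Y0.TabC_Data18
import Cfsg.Agent.Lib.CosetEnum.Fi24Y0.TabC_Data19
import Cfsg.Agent.Lib.CosetEnum.Fi24Y0.TabC_Data20
import Cfsg.Agent.Lib.CosetEnum.Fi24Y0.TabC_Data21
import Cfsg.Agent.Lib.CosetEnum.Fi24Y0.TabC_Data22
import Cfsg.Agent.Lib.CosetEnum.Fi24Y0.TabC_Data23
import Cfsg.Agent.Lib.CosetEnum.Fi24Y0.TabC_Data24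
import Cfsg.Agent.Lib.CosetEnum.Fi24Y0.TabC_Data25
import Cfsg.Agent.Lib.CosetEnum.Fi24Y0.TabC_Data26
import Cfsg.Agent.Lib.CosetEnum.Fi24Y0.TabC_Data27
import Cfsg.Agent.Lib.CosetEnum.Fi24Y0.TabC_Data28
import Cfsg.Agent.Lib.CosetEnum.Fi24Y0.TabC_Data29
import Cfsg.Agent.Lib.CosetEnum.Fi24Y0.TabC_Data30
import Cfsg.Agent.Lib.CosetEnum.Fi24Y0.TabC_Data31
import Cfsg.Agent.Lib.CosetEnum.Fi24Y0.TabC_Data32
import Cfsg.Agent.Lib.CosetEnum.Fi24Y0.TabC_Data33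
import Cfsg.Agent.Lib.CosetEnum.Fi24Y0.TabC_Data34
import Cfsg.Agent.Lib.CosetEnum.Fi24Y0.TabC_Data35
import Cfsg.Agent.Lib.CosetEnum.Fi24Y0.TabC_Data36
import Cfsg.Agent.Lib.CosetEnum.Fi24Y0.TabC_Data37
import Cfsg.Agent.Lib.CosetEnum.Fi24Y0.TabC_Data38
import Cfsg.Agent.Lib.CosetEnum.Fi24Y0.TabC_Data39
import Cfsg.Agent.Lib.CosetEnum.Fi24Y0.TabC_Data40
import Cfsg.Agent.Lib.CosetEnum.Fi24Y0.TabC_Data41
import Cfsg.Agent.Lib.CosetEnum.Fi24Y0.TabC_Data42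
import Cfsg.Agent.Lib.CosetEnum.Fi24Y0.TabC_Data43
import Cfsg.Agent.Lib.CosetEnum.Fi24Y0.TabC_Data44
import Cfsg.Agent.Lib.CosetEnum.Fi24Y0.TabC_Data45
import Cfsg.Agent.Lib.CosetEnum.Fi24Y0.TabC_Data46
import Cfsg.Agent.Lib.CosetEnum.Fi24Y0.TabC_Data47
import Cfsg.Agent.Lib.CosetEnum.Fi24Y0.TabC_Data48
import Cfsg.Agent.Lib.CosetEnum.Fi24Y0.TabC_Data49
import Cfsg.Agent.Lib.CosetEnum.Fi24Y0.TabC_Data50
import Cfsg.Agent.Lib.CosetEnum.Fi24Y0.TabC_Data51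
import Cfsg.Agent.Lib.CosetEnum.Fi24Y0.TabC_Data52
import Cfsg.Agent.Lib.CosetEnum.Fi24Y0.TabC_Data53
import Cfsg.Agent.Lib.CosetEnum.Fi24Y0.TabC_Data54
import Cfsg.Agent.Lib.CosetEnum.Fi24Y0.TabC_Data55
import Cfsg.Agent.Lib.CosetEnum.Fi24Y0.TabC_Data56
import Cfsg.Agent.Lib.CosetEnum.Fi24Y0.TabC_Data57
import Cfsg.Agent.Lib.CosetEnum.Fi24Y0.TabC_Data58
import Cfsg.Agent.Lib.CosetEnum.Fi24Y0.TabC_Data59
import Cfsg.Agent.Lib.CosetEnum.Fi24Y0.TabC_Data60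
import Cfsg.Agent.Lib.CosetEnum.Fi24Y0.TabC_Data61
import Cfsg.Agent.Lib.CosetEnum.Fi24Y0.TabC_Data62
import Cfsg.Agent.Lib.CosetEnum.Fi24Y0.TabC_Data63
import Cfsg.Agent.Lib.CosetEnum.Fi24Y0.TabZ_Data0
import Cfsg.Agent.Lib.CosetEnum.Fi24Y0.TabZ_Data1
import Cfsg.Agent.Lib.CosetEnum.Fi24Y0.TabZ_Data2
import Cfsg.Agent.Lib.CosetEnum.Fi24Y0.TabP_Data0
import Cfsg.Agent.Lib.CosetEnum.Fi24Y0.TabP_Data1
import Cfsg.Agent.Lib.CosetEnum.Fi24Y0.TabP_Data2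

/-! Generated certificate. -/

set_option autoImplicit false
set_option maxRecDepth 20000

namespace Cfsg.Lib.CosetEnum.Fi24Y0

/-- Table. -/
def tabF : Tab :=
  (.node 2048 tabF_0 tabF_1)

/-- Table. -/
def tabC : Tab :=
  (.node 65536 (.node 32768 (.node 16384 (.node 8192 (.node 4096 (.node 2048 tabC_0 tabC_1) (.node 2048 tabC_2 tabC_3)) (.node 4096 (.node 2048 tabC_4 tabC_5) (.node 2048 tabC_6 tabC_7))) (.node 8192 (.node 4096 (.node 2048 tabC_8 tabC_9) (.node 2048 tabC_10 tabC_11)) (.node 4096 (.node 2048 tabC_12 tabC_13) (.node 2048 tabC_14 tabC_15)))) (.node 16384 (.node 8192 (.node 4096 (.node 2048 tabC_16 tabC_17) (.node 2048 tabC_18 tabC_19)) (.node 4096 (.node 2048 tabC_20 tabC_21) (.node 2048 tabC_22 tabC_23))) (.node 8192 (.node 4096 (.node 2048 tabC_24 tabC_25) (.node 2048 tabC_26 tabC_27)) (.node 4096 (.node 2048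 tabC_28 tabC_29) (.node 2048 tabC_30 tabC_31))))) (.node 32768 (.node 16384 (.node 8192 (.node 4096 (.node 2048 tabC_32 tabC_33) (.node 2048 tabC_34 tabC_35)) (.node 4096 (.node 2048 tabC_36 tabC_37) (.node 2048 tabC_38 tabC_39))) (.node 8192 (.node 4096 (.node 2048 tabC_40 tabC_41) (.node 2048 tabC_42 tabC_43)) (.node 4096 (.node 2048 tabC_44 tabC_45) (.node 2048 tabC_46 tabC_47)))) (.node 16384 (.node 8192 (.node 4096 (.node 2048 tabC_48 tabC_49) (.node 2048 tabC_50 tabC_51)) (.node 4096 (.node 2048 tabC_52 tabC_53) (.node 2048 tabC_54 tabC_55))) (.node 8192 (.node 4096 (.node 2048 tabC_56 tabC_57) (.node 2048 tabC_58 tabC_59)) (.node 4096 (.node 2048 tabC_60 tabC_61) (.node 2048 tabC_62 tabC_63))))))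

/-- Table. -/
def tabZ : Tab :=
  (.node 2048 tabZ_0 (.node 2048 tabZ_1 tabZ_2))

/-- Table. -/
def tabP : Tab :=
  (.node 2048 tabP_0 (.node 2048 tabP_1 tabP_2))

/-- The shifts in use. -/
def relWords : List (List Nat) :=
  [[11, 11],
    [10, 10],
    [7, 7],
    [6, 6],
    [5, 5],
    [4, 4],
    [3, 3],
    [2, 2],
    [1, 1],
    [0, 0],
    [11, 10, 11, 10, 11, 10],
    [11, 7, 11, 7],
    [11, 6, 11, 6],
    [11, 5, 11, 5],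
    [11, 4, 11, 4],
    [11, 3, 11, 3],
    [11, 2, 11, 2],
    [11, 1, 11, 1],
    [11, 0, 11, 0],
    [10, 7, 10, 7],
    [10, 6, 10, 6],
    [10, 5, 10, 5, 10, 5],
    [10, 4, 10, 4],
    [10, 3, 10, 3],
    [10, 2, 10, 2],
    [10, 1, 10, 1],
    [10, 0, 10, 0],
    [7, 6, 7, 6, 7, 6],
    [7, 5, 7, 5],
    [7, 4, 7, 4],
    [7, 3, 7, 3],
    [7, 2, 7, 2],
    [7, 1, 7, 1],
    [7, 0, 7, 0],
    [6, 5, 6, 5, 6, 5],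
    [6, 4, 6, 4],
    [6, 3, 6, 3],
    [6, 2, 6, 2],
    [6, 1, 6, 1],
    [6, 0, 6, 0],
    [5, 4, 5, 4, 5, 4],
    [5, 3, 5, 3],
    [5, 2, 5, 2],
    [5, 1, 5, 1],
    [5, 0, 5, 0],
    [4, 3, 4, 3, 4, 3],
    [4, 2, 4, 2],
    [4, 1, 4, 1],
    [4, 0, 4, 0],
    [3, 2, 3, 2, 3, 2],
    [3, 1, 3, 1],
    [3, 0, 3, 0],
    [2, 1, 2, 1, 2, 1],
    [2, 0, 2, 0],
    [1, 0, 1, 0, 1, 0],
    [0, 10, 7, 6, 5, 4, 3, 2, 10, 7, 6, 5, 4, 3, 2, 10, 7, 6, 5, 4, 3, 2, 10, 7, 6, 5, 4, 3, 2, 10, 7, 6, 5, 4, 3, 2, 10, 7, 6, 5, 4, 3, 2, 10, 7, 6, 5, 4, 3, 2, 10, 7, 6, 5, 4, 3, 2, 10, 7, 6, 5, 4, 3, 2]]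

/-- Subgroup words. -/
def subWords : List (List Nat) :=
  [[0],
    [1],
    [2],
    [3],
    [4],
    [5],
    [6],
    [7],
    [10]]

/-- The certificate. -/
def step : StepCert :=
  ⟨relWords, subWords, [11, 10, 7, 6, 5, 4, 3, 2, 1, 0], tabF, tabC, tabZ, tabP, 28430, 129520, 28431, 12⟩

end Cfsg.Lib.CosetEnum.Fi24Y0
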