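import Cfsg.Agent.Lib.CosetEnum.Fi24Y0.Data

/-! Generated certificate. -/

set_option autoImplicit false
set_option maxRecDepth 20000

namespace Cfsg.Lib.CosetEnum.Fi24Y0

theorem defs_0 : defsOK tabF 4000 0 = true := by decide +kernel

theorem defs_1 : defsOK tabF 4000 4000 = true := by decide +kernel

theorem defs_2 : defsOK tabF 4000 8000 = true := by decide +kernel

theorem defs_3 : defsOK tabF 4000 12000 = true := by decide +kernel

end Cfsg.Lib.CosetEnum.Fi24Y0
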